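import Cfsg.Agent.H5.L34.D

/-! The action of `4·L₃(4)` on the projective plane of order four. -/

set_option autoImplicit false
set_option linter.unusedVariables false
set_option synthInstance.maxSize 4000
set_option synthInstance.maxHeartbeats 200000

namespace Cfsg.Agent.H5.L34

open Matrix Cfsg.Agent.H7

abbrev M3 := Matrix (Fin 3) (Fin 3) F4
abbrev V6 := Fin 6 → ZMod 3

def o : F4 := ⟨0, 1⟩

/-- the real form of the alternating matrices -/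
def J (x : V6) : M4 :=
  !![0, ⟨x 3, x 2⟩, ⟨x 0, x 1⟩, ⟨x 5, x 4⟩; ⟨-x 3, -x 2⟩, 0, ⟨-x 5, x 4⟩, ⟨x 0, -x 1⟩;
    ⟨-x 0, -x 1⟩, ⟨x 5, -x 4⟩, 0, ⟨-x 3, x 2⟩; ⟨-x 5, -x 4⟩, ⟨-x 0, x 1⟩, ⟨x 3, -x 2⟩, 0]

def tb : ℕ := 0x400000000000034003d000579740000000000000340000000000004000a40014964000019000d51c40000d0002d42100914014900000000000000000024000000000000500054003d964000000000000005000000000000240014000a79740000d0002dc51000019000d61400344004340000000010000869500000c4001152902dd4067400000000084001057d000011000c7d540d6d034640000024e40765000000765024e40000000000000000001000000000000240000000000005000a4001477900000000000000500000000000024003d000564940000d4001942100002d000d11c40344004340000000000000000004000000000000340014000a6494000000000000034000000000000400054003d77900002d000d21400000d40019c51009140149000000000c4001157d00001000087d54067402dd4000000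0011000c69500000840010529034640d6d000000e64025740000025740e64000000000000000000040025000934b40000900025d59021440c50000000000740039b74000039000759d40c50021440000014540f69000000554029f40000000000000000001000740039d59000039000774b40461010c40000000025000919d40000900025b74010c40461000000f69014540000029f40554000000000000000000045340345000000109009100000000000000000001109009100000005340345000000000000000000040000000000001000000000000040001000041040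

def dg (n : ℕ) : F4 := if n % 4 = 0 then 0 else if n % 4 = 1 then 1 else if n % 4 = 2 then o else o + 1

def pt' (n : ℕ) : Fin 3 → F4 := ![dg n, dg (n / 4), dg (n / 16)]

/-- the point attached to a vector -/
def pt (x : V6) : Fin 3 → F4 :=
  pt' (tb >>> (6 * ((x 0).val + 3 * (x 1).val + 9 * (x 2).val + 27 * (x 3).val + 81 * (x 4).val +
    243 * (x 5).val)) % 64)

def gm : Fin 8 → M4 := ![pm 1, pm 2, pm 4, pm 8, cj (pm 4), cj (pm 8), W0, cj W0]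

def gn : Fin 8 → M3 := ![!![1, 0, 1; 0, 1, 0; 0, 0, 1], !![1, 0, o + 1; 0, 1, 0; 0, 0, 1],
  !![1, 1, 0; 0, 1, 0; 0, 0, 1], !![1, o + 1, 0; 0, 1, 0; 0, 0, 1], !![1, 0, 0; 0, 1, o + 1; 0, 0, 1],
  !![1, 0, 0; 0, 1, o; 0, 0, 1], !![1, 0, 0; 0, 0, 1; 0, 1, 0], !![0, o, 0; o + 1, 0, 0; 0, 0, 1]]

def gr : Fin 8 → Matrix (Fin 6) (Fin 6) (ZMod 3) := ![!![2, 0, 0, 0, 0, 0; 0, 2, 0, 0, 0, 0; 0, 0, 1, 0, 0, 0; 0, 0, 0, 1, 0, 0; 0, 0, 0, 0, 2, 0; 0, 0, 0, 0, 0, 2],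
  !![1, 0, 0, 0, 0, 0; 0, 1, 0, 0, 0, 0; 0, 0, 2, 0, 0, 0; 0, 0, 0, 2, 0, 0; 0, 0, 0, 0, 2, 0; 0, 0, 0, 0, 0, 2],
  !![2, 0, 0, 0, 0, 0; 0, 2, 0, 0, 0, 0; 0, 0, 1, 0, 0, 0; 0, 0, 0, 2, 0, 0; 0, 0, 0, 0, 2, 0; 0, 0, 0, 0, 0, 1],
  !![1, 0, 0, 0, 0, 0; 0, 2, 0, 0, 0, 0; 0, 0, 2, 0, 0, 0; 0, 0, 0, 2, 0, 0; 0, 0, 0, 0, 1, 0; 0, 0, 0, 0, 0, 2],
  !![2, 0, 0, 0, 0, 0; 0, 2, 0, 0, 0, 0; 0, 0, 0, 1, 0, 0; 0, 0, 1, 0, 0, 0; 0, 0, 0, 0, 0, 1; 0, 0, 0, 0, 1, 0],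
  !![0, 2, 0, 0, 0, 0; 2, 0, 0, 0, 0, 0; 0, 0, 2, 0, 0, 0; 0, 0, 0, 2, 0, 0; 0, 0, 0, 0, 0, 2; 0, 0, 0, 0, 2, 0],
  !![2, 0, 0, 0, 0, 0; 0, 0, 0, 0, 2, 0; 0, 0, 2, 0, 0, 0; 0, 0, 0, 0, 0, 2; 0, 2, 0, 0, 0, 0; 0, 0, 0, 2, 0, 0],
  !![1, 2, 0, 0, 1, 2; 2, 1, 0, 0, 1, 2; 0, 0, 1, 1, 2, 2; 0, 0, 1, 1, 1, 1; 1, 1, 2, 1, 0, 0; 2, 2, 2, 1, 0, 0]]

theorem gm_J : ∀ i k c, gm i * J (Pi.single k c) * (gm i)ᵀ = J (gr i *ᵥ Pi.single k c) := by decide +kernel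

theorem gm_U : ∀ i, gm i * (gm i)ᴴ = 1 ∧ (gn i).det = 1 := by decide +kernel

theorem gr_pt : ∀ i, ∀ a b c d e f : ZMod 3, pt ![a, b, c, d, e, f] ≠ 0 →
    pt (gr i *ᵥ ![a, b, c, d, e, f]) ≠ 0 ∧
      ∃ s : F4, pt (gr i *ᵥ ![a, b, c, d, e, f]) = s • gn i *ᵥ pt ![a, b, c, d, e, f] := by decide +kernel

theorem pt_neg : ∀ a b c d e f : ZMod 3, pt (-![a, b, c, d, e, f]) = pt ![a, b, c, d, e, f] := by
  decide +kernel

theorem pt_wit : pt ![0, 0, 1, 0, 0, 0] = ![1, 0, 0] ∧ pt ![0, 0, 1, 1, 1, 1] = ![0, 1, 0] ∧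
    pt ![1, 2, 0, 1, 2, 0] = ![0, 0, 1] ∧ pt ![1, 0, 1, 2, 0, 1] = ![1, 1, 1] := by decide +kernel

def t1 : List (List (Fin 8)) := [[], [], [], [], [], [2], [2, 3], [3], [], [0], [0, 1], [1], [], [7, 3, 7], [7, 2, 7], [7, 2, 3, 7],
  [], [], [], [], [], [4, 5], [5], [4], [], [6, 7, 3, 7, 6], [6, 7, 2, 7, 6], [6, 7, 2, 3, 7, 6], [],
  [6, 4, 5, 6], [6, 5, 6], [6, 4, 6], [], [], [], []]

def t2 : List (List (Fin 8)) := [[], [], [], [], [], [], [3, 7, 2, 7, 3, 7], [2, 7, 3, 7, 2, 7], [], [], [1, 6, 7, 2, 7, 3, 7, 6],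
  [0, 6, 7, 3, 7, 2, 7, 6], [], [], [2, 7, 3, 7, 2, 7], [3, 7, 2, 7, 3, 7], [], [], [], [], [], [],
  [5, 6, 4, 6, 5, 6], [4, 6, 5, 6, 4, 6], [], [], [0, 6, 7, 3, 7, 2, 7, 6], [1, 6, 7, 2, 7, 3, 7, 6],
  [], [], [4, 6, 5, 6, 4, 6], [5, 6, 4, 6, 5, 6], [], [], [], []]

def wd (t : List (List (Fin 8))) (i j : Fin 3) (a : F4) : List (Fin 8) :=
  t.getD (12 * i.1 + 4 * j.1 + a.re.val + 2 * a.im.val) []

theorem sl_words : ∀ i j : Fin 3, i ≠ j → ∀ a : F4, transvection i j a = ((wd t1 i j a).map gn).prod ∧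
    (a ≠ 0 → a ≠ 1 → diagonal (fun k => if k = i then a else if k = j then a * a else 1) =
      ((wd t2 i j a).map gn).prod) := by decide +kernel

def m1 : M4 := !![0, 0, 0, -w; 0, 0, 1, 0; 0, w, 0, 0; 1, 0, 0, 0]
def m2 : M4 := !![1, 1, -1, w; w, -w, -w, 1; 1, 1, 1, -w; 1, -1, 1, w]

theorem comm_tr : m1 = gm 3 * gm 4 ∧ m2 = gm 2 * gm 7 ∧ m1 * m1ᴴ = 1 ∧ m2 * m2ᴴ = 1 ∧
    trace (m1 * m2 * m1ᴴ * m2ᴴ) = -w ∧ ¬ Sm (gm 2 * gm 5) (gm 5 * gm 2) := by decide +kernel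

end Cfsg.Agent.H5.L34
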