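import Cfsg.Agent.H7.AschFF

/-! Explicit matrices for `4·L₃(4) ≤ SU₄(3)`. -/

set_option autoImplicit false
set_option linter.unusedVariables false
set_option synthInstance.maxSize 4000
set_option synthInstance.maxHeartbeats 200000

namespace Cfsg.Agent.H5.L34

open Matrix Cfsg.Agent.H7

abbrev M4 := Matrix (Fin 4) (Fin 4) F9

def w : F9 := ⟨0, 1⟩

/-- equal up to a fourth root of unity -/
def Sm (m n : M4) : Prop := m = n ∨ m = -n ∨ m = w • n ∨ m = -w • n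

instance decSm (m n : M4) : Decidable (Sm m n) := inferInstanceAs (Decidable (_ ∨ _))

def sgn (n : ℕ) : F9 := if n % 2 = 0 then 1 else -1

/-- the Pauli matrices -/
def pm (v : Fin 16) : M4 := of fun i j =>
  if i.1 = j.1 ^^^ (v.1 / 4 % 2 * 2 + v.1 / 8) then sgn (v.1 % 2 * (i.1 / 2) + v.1 / 2 % 2 * (i.1 % 2)) else 0

def sg (v u : Fin 16) : F9 := sgn (v.1 / 4 % 2 * (u.1 % 2) + v.1 / 8 * (u.1 / 2 % 2))

def sp (v u : Fin 16) : F9 := sg v u * sg u v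

def dv : Fin 4 → F9 := ![1, 1, 1, w]
def dv' : Fin 4 → F9 := ![1, 1, 1, -w]

/-- conjugation by `diag(1,1,1,i)` -/
def cj (m : M4) : M4 := of fun i j => dv i * m i j * dv' j

def y1 : M4 := diagonal ![1, 1, w, -w]
def y2 : M4 := diagonal ![1, w, 1, -w]
def W0 : M4 := !![1, 1, 1, 1; 1, -1, 1, -1; 1, 1, -1, -1; 1, -1, -1, 1]

theorem pm_mul : ∀ v u, pm v * pm u = sg v u • pm (v ^^^ u) := by decide +kernel

theorem sg_sq : ∀ v u, (sg v u = 1 ∨ sg v u = -1) ∧ v ^^^ u = u ^^^ v ∧ v ^^^ v = 0 := by decide +kernel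

theorem pm_inj : ∀ v u, Sm (pm v) (pm u) → v = u := by decide +kernel

theorem pm0 : pm 0 = 1 := by decide +kernel

theorem pm_ex : ∀ a b c d : F9, a * a = 1 → b * b = 1 → c * c = 1 → d * d = 1 →
    ∃ v, sp v 1 = a ∧ sp v 2 = b ∧ sp v 4 = c ∧ sp v 8 = d := by decide +kernel

theorem cj2 : (∀ v, ∃ u, Sm (cj (cj (pm v))) (pm u)) ∧ (∀ u, ∃ v, Sm (cj (cj (pm v))) (pm u)) ∧
    cj y1 = y1 ∧ cj y2 = y2 ∧ (∀ v : Fin 16, v.1 < 4 → cj (pm v) = pm v) ∧ cj (cj (cj (cj W0))) = W0 ∧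
    pm 4 * cj (pm 4) = y2 ∧ pm 8 * cj (pm 8) = y1 := by decide +kernel

def lin (a b c d v : Fin 16) : Fin 16 :=
  (bif v.1.testBit 0 then a else 0) ^^^ (bif v.1.testBit 1 then b else 0) ^^^
    (bif v.1.testBit 2 then c else 0) ^^^ (bif v.1.testBit 3 then d else 0)

theorem lin_id : ∀ v, lin 1 2 4 8 v = v := by decide +kernel

theorem ind16 {Φ : Fin 16 → Prop} (h0 : Φ 0) (h1 : Φ 1) (h2 : Φ 2) (h4 : Φ 4) (h8 : Φ 8)
    (hm : ∀ v u, Φ v → Φ u → Φ (v ^^^ u)) (v : Fin 16) : Φ v := by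
  rw [← lin_id v, lin]
  refine hm _ _ (hm _ _ (hm _ _ ?_ ?_) ?_) ?_
  · cases v.1.testBit 0 <;> assumption
  · cases v.1.testBit 1 <;> assumption
  · cases v.1.testBit 2 <;> assumption
  · cases v.1.testBit 3 <;> assumption

/-- `m` induces `σ` -/
def Ind (m : M4) (σ : Fin 16 → Fin 16) : Prop := ∀ v, Sm (pm (σ v) * m) (m * pm v)

instance decInd (m : M4) (σ : Fin 16 → Fin 16) : Decidable (Ind m σ) := inferInstanceAs (Decidable (∀ _, _))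

theorem inds : Ind y1 (lin 1 2 7 9) ∧ Ind y2 (lin 1 2 6 11) ∧ Ind W0 (lin 4 8 1 2) ∧
    Ind (cj (cj W0)) (lin 6 9 8 4) := by decide +kernel

/-- invertible of determinant one -/
def Un (m m' : M4) : Prop := m * m' = 1 ∧ m.det = 1

instance decUn (m m' : M4) : Decidable (Un m m') := inferInstanceAs (Decidable (_ ∧ _))

def z8 : F9 := ⟨1, 1⟩
def z7 : F9 := ⟨2, 1⟩

def bm : Fin 8 → M4 := ![1, y1, y2, diagonal ![1, w, w, -1], diagonal ![z8, z8, z7, z7],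
  diagonal ![z8, z7, z8, z7], diagonal ![z8, z7, z7, z8], diagonal ![z8, z8, z8, -z8]]

def bs : Fin 8 → Fin 16 × Fin 16 := ![(4, 8), (7, 9), (6, 11), (5, 10), (5, 8), (4, 10), (7, 11), (6, 9)]

def bm' (r : Fin 8) : M4 := if r < 4 then (bm r)ᴴ else -(bm r)ᴴ

theorem bm_un : (∀ r, Un (bm r) (bm' r) ∧ Ind (bm r) (lin 1 2 (bs r).1 (bs r).2)) ∧ Un W0 W0 ∧
    Un (cj (cj W0)) (cj (cj W0)) := by
  decide +kernel

theorem bs_all : ∀ c d : Fin 16, sp 1 c = sp 1 4 → sp 2 c = sp 2 4 → sp 1 d = sp 1 8 → sp 2 d = sp 2 8 →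
    sp c d = sp 4 8 → ∃ r, bs r = (c, d) := by decide +kernel

theorem bm_bad : ∀ r : Fin 8, 4 ≤ r → ¬ Sm (bm r) 1 ∧ (r = 7 ∨ bm r + bm' r = -w • 1) := by decide +kernel

theorem bm_good : ∀ r : Fin 8, r < 4 → r ≠ 0 → ∀ v, Sm (bm r * pm v * (bm r * pm v)) 1 →
    ∃ u, Sm (cj (pm u)) (bm r * pm v) := by decide +kernel

def ev (σ : Fin 16 → Fin 16) (l : List (Fin 3)) : Fin 16 → Fin 16 :=
  l.foldr (fun i f => ![lin 1 2 7 9, lin 1 2 6 11, σ] i ∘ f) id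

def wl : List (List (Fin 3)) := [[2, 0, 2, 0, 2, 2, 2], [2, 1, 2, 2, 2, 2, 2], [1, 2, 2, 1, 2, 1, 2],
  [2, 1, 2, 1, 2], [0, 2, 0, 1, 2, 1], [2, 2, 0, 2, 0, 2], [0, 1, 2, 1, 2, 0, 1], [0, 2, 1, 2, 2, 2, 0],
  [1, 2, 0, 2], [0, 1, 2, 0, 2], [1, 2, 0, 2, 0], [1, 2, 1, 2, 2, 1], [1, 2, 2, 1, 2, 1]]

theorem wl_all : ∀ b : Fin 16, sp 8 b = sp 1 2 → ∀ c : Fin 16, sp 8 c = sp 1 4 → sp b c = sp 2 4 →
    ∀ d : Fin 16, sp 8 d = sp 1 8 → sp b d = sp 2 8 → sp c d = sp 4 8 → ∃ l ∈ wl,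
      (ev (lin 8 b c d) l 1 = 1 ∧ ev (lin 8 b c d) l 2 ≠ 2) ∨ (∀ v, ev (lin 8 b c d) l v = lin 4 8 1 2 v) ∨
        ∀ v, ev (lin 8 b c d) l v = lin 6 9 8 4 v := by decide +kernel

def wt : List (List (Fin 3)) := [[], [2], [0, 2], [1, 2], [1, 0, 2], [2, 0, 2], [2, 1, 2], [0, 2, 0, 2],
  [1, 2, 0, 2], [0, 2, 1, 2], [1, 2, 1, 2], [1, 0, 2, 0, 2], [2, 1, 2, 0, 2], [1, 0, 2, 1, 2], [2, 0, 2, 1, 2]]

theorem wt_all : ∀ v : Fin 16, v ≠ 0 → ∃ l ∈ wt, ev (lin 4 8 1 2) l 1 = v := by decide +kernel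

end Cfsg.Agent.H5.L34
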